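import Cfsg.Agent.H98.F43.BlockE
import Cfsg.Agent.H885.Pw.DichF
import Cfsg.Agent.H938.F43.FC

/-!
# `F₄(3)`: the reduction to `C(z)` for a property of the 3-singular classes (S2464; helper290)

* `abs_gen` : the mixed elements of `H = C(z)`, for an arbitrary class property `P`;
* `reduce` : `P` holds for all 3-singular elements of `F₄(3)` as soon as it holds for the elements with
  `|C(g)| ≤ 4976985092`, for the products `x_α(a) x_θ(d)`, `a ≠ 0`, and for the elements `g` of `C(z)` with `ff g ≠ 1` such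
  that `g` is conjugate to `g z` under `Q` or `|FixX g| ≤ 3⁹`.
-/

set_option autoImplicit false

namespace Cfsg.Agent.H290.Six.F43

open Subgroup
open Cfsg Cfsg.Lie Cfsg.Agent.H323.Pw
open CoxeterSystem Cfsg.Agent.Nodes.RGDChev Cfsg.Agent.KFacts.RgdChevCoord Cfsg.Agent.H537.Pw
open Cfsg.Agent.H700.F43 Cfsg.Agent.H267.SpFx Cfsg.Agent.H150.F43.Step Cfsg.Agent.H98.Pw Cfsg.Agent.H98.F43
open Cfsg.Agent.H750.F43 (CZ G3 zz xt xa eb ne_ng odd_of_pow mapc mapd three_cases U_le sp_transitive transv_add transv_zero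
  transv_ne_one conj_transv)
open Cfsg.Agent.ClassicalGeometry.SympBasic
open Cfsg.Agent.ChevalleyStructure.CoxeterGeomTypes Module

universe v

theorem orderOf_conj {G : Type*} [Group G] (x g : G) : orderOf (x * g * x⁻¹) = orderOf g := by
  have h4 := orderOf_injective (MulAut.conj x).toMonoidHom (MulAut.conj x).injective g
  exact h4

section

variable {G : Type v} [Group G]

/-- **Mixed elements of `H = C(z)`, any class property.** -/
theorem abs_gen [Finite G] {P : G → Prop} (CJ : ∀ x g : G, P (x * g * x⁻¹) → P g) {H : Subgroup G} {z : H}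
    (hH : ∀ g : G, g ∈ H ↔ g * z = z * g) (f : H →* Sp) (hsurj : Function.Surjective f) (h : XS 3 f.ker z)
    (hQ : Nat.card f.ker = 3 ^ 15) {kap : H → V14} (hk : Kap f z kap)
    (SMALL : ∀ g : G, Nat.card (centralizer ({g} : Set G)) ≤ 4976985092 → P g)
    (RATIO : ∀ g : H, f g ≠ 1 → ((∃ q ∈ f.ker, g * q * g⁻¹ * q⁻¹ ∈ zpowers z ∧ g * q * g⁻¹ * q⁻¹ ≠ 1) ∨
      Nat.card (FixX f.ker z g) ≤ 3 ^ 9) → P g)
    {t : H} (ht : ∀ x ∈ f.ker, kap (t * x * t⁻¹) = - kap x)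
    {xb : H} {c : ZMod 3} (hc0 : c ≠ 0)
    (hT : ∀ y : V6, (f xb).1.mulVec y = y + (c * y (Sum.inr 2)) • e3)
    (KK : ∀ c : H, f c * f xb = f xb * f c → ∃ q ∈ f.ker, c * q * xb = xb * (c * q))
    {n : G} (n1 : n * xb * n⁻¹ = z) (n2 : n * z * n⁻¹ = xb)
    {s u : H} {k j : ℕ} (hs : s ^ 2 ^ k = 1) (hu : u ^ 3 ^ j = 1) (hc : s * u = u * s)
    (hs1 : s ≠ 1) (hu1 : u ≠ 1) : P ((s : G) * u) := by
  have : Finite f.ker := Nat.finite_of_card_ne_zero (by rw [hQ]; norm_num)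
  have : Finite (zpowers z) := Nat.finite_of_card_ne_zero (by rw [Nat.card_zpowers, h.ord]; norm_num)
  -- `kap` is surjective
  have hkz : ∀ x ∈ f.ker, ∀ y ∈ f.ker, kap x = kap y → x⁻¹ * y ∈ zpowers z := by
    intro x hx y hy hxy
    rw [← hk.ker _ (mul_mem (inv_mem hx) hy), hk.mul _ (inv_mem hx) _ hy, hk.inv hx, hxy, neg_add_cancel]
  have hsur : ∀ φ : V14, ∃ x ∈ f.ker, kap x = φ := by
    let κ : f.ker → V14 := fun x => kap x
    have hle : Nat.card f.ker ≤ Nat.card (Set.range κ) * Nat.card (zpowers z) := by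
      rw [← Nat.card_prod]
      have hsec : ∀ y : Set.range κ, ∃ x : f.ker, κ x = y := fun y => y.2
      choose r hr using hsec
      refine Nat.card_le_card_of_injective (fun x => (⟨κ x, x, rfl⟩, ⟨((r ⟨κ x, x, rfl⟩ : f.ker) : H)⁻¹ * x,
        hkz _ (r _).2 _ x.2 (hr ⟨κ x, x, rfl⟩)⟩)) ?_
      intro x y hxy
      have h4 : κ x = κ y := congrArg (fun p => (p.1 : V14)) hxy
      have h5 : (⟨κ x, x, rfl⟩ : Set.range κ) = ⟨κ y, y, rfl⟩ := Subtype.ext h4
      have h6 : ((r ⟨κ x, x, rfl⟩ : f.ker) : H)⁻¹ * x = ((r ⟨κ y, y, rfl⟩ : f.ker) : H)⁻¹ * y :=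
        congrArg (fun p => (p.2 : H)) hxy
      rw [h5] at h6
      exact Subtype.ext (mul_left_cancel h6)
    rw [hQ, Nat.card_zpowers, h.ord, Nat.card_coe_set_eq] at hle
    have hV : Nat.card V14 = 3 ^ 14 := by rw [Nat.card_fun, Nat.card_zmod, Nat.card_fin]
    have h4 : Set.range κ = Set.univ := by
      refine Set.eq_of_subset_of_ncard_le (Set.subset_univ _) ?_ (Set.toFinite _)
      rw [Set.ncard_univ, hV]
      omega
    intro φ
    have h5 : φ ∈ Set.range κ := by rw [h4]; trivial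
    obtain ⟨x, hx⟩ := h5
    exact ⟨x, x.2, hx⟩
  -- `g` trivial on `Q / Z`
  have key : ∀ (g : H) (M : V14 →ₗ[F3] V14), (∀ x ∈ f.ker, kap (g * x * g⁻¹) = M (kap x)) → Rel (f g) M := by
    intro g M hM
    obtain ⟨X, hX⟩ := exists_rel (f g)
    have h3 : M = X := by
      apply LinearMap.ext
      intro φ
      obtain ⟨x, hx, rfl⟩ := hsur φ
      rw [← hM x hx, hk.act g x hx X hX]
    rw [h3]
    exact hX
  have htn : f t = ng := by
    have h3 : Rel (f t) (-1) := key t (-1) (fun x hx => ht x hx)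
    have h4 := h3.mul rel_ng
    have h5 : ((-1 : V14 →ₗ[F3] V14) * -1) = 1 := by
      apply LinearMap.ext
      intro φ
      exact neg_neg φ
    rw [h5] at h4
    have h6 := rel_one h4
    have h7 : f t = (f t * ng) * ng := by rw [mul_assoc, ng_mul_ng, mul_one]
    rw [h7, h6, one_mul]
  have hodd : ∀ (u : H) (k : ℕ), u ^ 3 ^ k = 1 → Odd (orderOf (f u)) := by
    intro u k hu
    refine Odd.of_dvd_nat (Odd.pow (n := k) (by decide : Odd 3)) (orderOf_dvd_of_pow_eq_one ?_)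
    rw [← map_pow, hu, map_one]
  have hng1 : (ng : Sp) ≠ 1 := by
    intro h3
    have h4 := rel_unique (by rw [← h3]; exact rel_ng : Rel (1 : Sp) (-1)) Rel.one
    have h5 := congrFun (LinearMap.congr_fun h4 (Pi.single 0 1)) 0
    revert h5
    simp
    decide
  refine mixed_all (P := P) CJ hH h hQ f rfl hsurj htn ?_ ?_ ?_ ?_ SMALL ?_ hc0 hT ?_ KK
    n1 n2 hs hu hc hs1 hu1
  · -- STEP
    intro g hg1 _ hor
    exact RATIO g hg1 hor
  · -- F9
    intro u k hu huQ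
    obtain ⟨X, hX⟩ := exists_rel (f u)
    have h3 := (Cfsg.Agent.H750.F43.fix_le exists_rel (l := f u) huQ (hodd u k hu) hX).1
    calc _ ≤ 3 * 3 ^ Module.finrank F3 (LinearMap.ker (X - 1)) := card_fixX_le_finrank hk h.ord hX
      _ ≤ 3 * 3 ^ 9 := Nat.mul_le_mul_left _ (Nat.pow_le_pow_right (by norm_num) h3)
      _ = 3 ^ 10 := by norm_num
  · -- INV
    intro x hx hx2
    rw [hk.fix_iff hx (M := -1) (by rw [htn]; exact rel_ng)] at hx2
    rw [← hk.ker x hx]
    have h3 : -kap x = kap x := hx2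
    funext i
    have h4 := congrFun h3 i
    revert h4
    generalize kap x = φ
    show -(φ i) = φ i → φ i = 0
    generalize φ i = a
    revert a
    decide
  · -- FAITH
    intro g hg
    have h3 : Rel (f g) 1 := key g 1 (fun x hx => by
      obtain ⟨X, hX⟩ := exists_rel (f g)
      rw [hk.act g x hx X hX]
      exact (hk.fix_iff hx hX).1 (hg x hx))
    exact rel_one h3
  · -- E2
    intro s w k _ hts hw
    have h1 : f s = ng := by
      have h2 := (MonoidHom.mem_ker).1 hts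
      rw [map_mul, map_inv, htn, inv_mul_eq_one] at h2
      exact h2.symm
    have h2 : f w = 1 := h.z_le hw
    have h3 : f (s * w) = ng := by rw [map_mul, h1, h2, mul_one]
    rw [← Subgroup.coe_mul]
    refine RATIO (s * w) (by rw [h3]; exact hng1) (Or.inr ?_)
    have h4 := card_fixX_le hk h.ord (g := s * w) (M := -1) (by rw [h3]; exact rel_ng)
    have h5 : Nat.card {φ : V14 // (-1 : V14 →ₗ[F3] V14) φ = φ} ≤ 1 := by
      have : Subsingleton {φ : V14 // (-1 : V14 →ₗ[F3] V14) φ = φ} := by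
        refine ⟨fun x y => Subtype.ext ?_⟩
        have h6 : ∀ φ : V14, (-1 : V14 →ₗ[F3] V14) φ = φ → φ = 0 := by
          intro φ h7
          funext i
          have h8 : -(φ i) = φ i := congrFun h7 i
          revert h8
          show -(φ i) = φ i → φ i = 0
          generalize φ i = a
          revert a
          decide
        rw [h6 x.1 x.2, h6 y.1 y.2]
      exact Finite.card_le_one_iff_subsingleton.2 inferInstance
    calc _ ≤ 3 * _ := h4
      _ ≤ 3 * 1 := Nat.mul_le_mul_left _ h5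
      _ ≤ 3 ^ 9 := by norm_num
  · -- transitivity
    intro v hv
    exact Cfsg.Agent.H150.F43.Swap.exists_mulVec e3 v (by decide) hv

/-- the same with `3 ∣ orderOf g` -/
theorem abs_gen3 [Finite G] {P : G → Prop} (CJ : ∀ x g : G, P (x * g * x⁻¹) → P g) {H : Subgroup G} {z : H}
    (hH : ∀ g : G, g ∈ H ↔ g * z = z * g) (f : H →* Sp) (hsurj : Function.Surjective f) (h : XS 3 f.ker z)
    (hQ : Nat.card f.ker = 3 ^ 15) {kap : H → V14} (hk : Kap f z kap)
    (SMALL : ∀ g : G, 3 ∣ orderOf g → Nat.card (centralizer ({g} : Set G)) ≤ 4976985092 → P g)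
    (RATIO : ∀ g : H, 3 ∣ orderOf (g : G) → f g ≠ 1 →
      ((∃ q ∈ f.ker, g * q * g⁻¹ * q⁻¹ ∈ zpowers z ∧ g * q * g⁻¹ * q⁻¹ ≠ 1) ∨
      Nat.card (FixX f.ker z g) ≤ 3 ^ 9) → P g)
    {t : H} (ht : ∀ x ∈ f.ker, kap (t * x * t⁻¹) = - kap x)
    {xb : H} {c : ZMod 3} (hc0 : c ≠ 0)
    (hT : ∀ y : V6, (f xb).1.mulVec y = y + (c * y (Sum.inr 2)) • e3)
    (KK : ∀ c : H, f c * f xb = f xb * f c → ∃ q ∈ f.ker, c * q * xb = xb * (c * q))
    {n : G} (n1 : n * xb * n⁻¹ = z) (n2 : n * z * n⁻¹ = xb)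
    {s u : H} {k j : ℕ} (hs : s ^ 2 ^ k = 1) (hu : u ^ 3 ^ j = 1) (hc : s * u = u * s)
    (hs1 : s ≠ 1) (hu1 : u ≠ 1) (h3 : 3 ∣ orderOf ((s : G) * u)) : P ((s : G) * u) :=
  abs_gen (P := fun x => 3 ∣ orderOf x → P x) (fun x g h h3 => CJ x g (h (by
    have h4 : orderOf (x * g * x⁻¹) = orderOf g := orderOf_conj x g
    rw [h4]; exact h3))) hH f hsurj h hQ hk (fun g hc h3 => SMALL g h3 hc)
    (fun g hf h h3 => RATIO g h3 hf h) ht hc0 hT KK n1 n2 hs hu hc hs1 hu1 h3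

end

theorem cj_of {G : Type*} [Group G] {P : G → Prop} (CJ : ∀ a b : G, IsConj a b → P b → P a) :
    ∀ x g : G, P (x * g * x⁻¹) → P g := fun x g h => CJ g _ (isConj_iff.2 ⟨x, rfl⟩) h

theorem orderOf_of_isConj {G : Type*} [Group G] {a b : G} (h : IsConj a b) : orderOf a = orderOf b := by
  obtain ⟨x, rfl⟩ := isConj_iff.1 h
  exact (orderOf_conj x a).symm

/-- `[g, q]` in `Z`, not trivial ⇒ `g` is conjugate to `g z` -/
theorem conv {G : Type*} [Group G] {R : Subgroup G} {z g : G} (hc : ∀ x : G, x * z = z * x) (h3 : z ^ 3 = 1)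
    (h : ∃ q ∈ R, g * q * g⁻¹ * q⁻¹ ∈ zpowers z ∧ g * q * g⁻¹ * q⁻¹ ≠ 1) :
    ∃ y ∈ R, y * g * y⁻¹ = g * z := by
  obtain ⟨q, hq, hz, h1⟩ := h
  obtain ⟨k, hk⟩ := hz
  have hk' : z ^ k = g * q * g⁻¹ * q⁻¹ := hk
  have e : q * g * q⁻¹ = g * (z ^ k)⁻¹ := by
    have h4 : Commute g (z ^ k) := (show Commute g z from hc g).zpow_right k
    have h5 : g * q = z ^ k * (q * g) := by rw [hk']; group
    have h6 : q * g = (z ^ k)⁻¹ * (g * q) := by rw [h5]; group
    rw [h6, mul_assoc, mul_assoc, mul_inv_cancel, mul_one, h4.inv_right.eq]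
  have hcase : (z ^ k)⁻¹ = z ∨ (z ^ k)⁻¹ = z⁻¹ := by
    have h5 : k % 3 = 0 ∨ k % 3 = 1 ∨ k % 3 = 2 := by omega
    have h6 : z ^ k = z ^ (k % 3) := by
      conv_lhs => rw [← Int.emod_add_mul_ediv k 3]
      rw [zpow_add, zpow_mul, show z ^ (3 : ℤ) = 1 from by exact_mod_cast h3, one_zpow, mul_one]
    rcases h5 with h5 | h5 | h5
    · exfalso
      apply h1
      rw [← hk', h6, h5, zpow_zero]
    · right
      rw [h6, h5, zpow_one]
    · left
      rw [h6, h5]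
      refine inv_eq_of_mul_eq_one_left ?_
      have h7 : z ^ (2 : ℤ) = z ^ 2 := by exact_mod_cast zpow_natCast z 2
      rw [h7, ← pow_succ']
      exact h3
  rcases hcase with h5 | h5
  · exact ⟨q, hq, by rw [e, h5]⟩
  · exact ⟨q⁻¹, inv_mem hq, conj_inv hc (by rw [e, h5])⟩

theorem zP_pow : zP ^ 3 = 1 := by
  have h := pow_orderOf_eq_one zP
  rwa [show orderOf zP = 3 from (xs_ff dat).ord] at h

/-- **3-elements** -/
theorem three_elt {P : G3 → Prop} (CJ : ∀ a b : G3, IsConj a b → P b → P a)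
    (RATIO : ∀ g : ↥PP, ff g ≠ 1 → ((∃ y ∈ ff.ker, y * g * y⁻¹ = g * zP) ∨ Nat.card (FixX ff.ker zP g) ≤ 3 ^ 9) →
      P (g : G3))
    (U4 : ∀ a d : F3, a ≠ 0 → P (xa a * xt d))
    {g : G3} (hg1 : g ≠ 1) {k : ℕ} (hg : g ^ 3 ^ k = 1) : P g := by
  have STEP : ∀ g : ↥CZ, model.f g ≠ 1 →
      ((∃ y ∈ H750.F43.VV, ∃ d : F3, d ≠ 0 ∧ y * (g : G3) * y⁻¹ = (g : G3) * xt d) ∨
        Nat.card {x : H750.F43.VV // (g : G3) * x * (g : G3)⁻¹ * (x : G3)⁻¹ ∈ Subgroup.zpowers zz} ≤ 3 ^ 9) → P (g : G3) := by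
    intro g h1 h
    refine RATIO (ic g) h1 ?_
    rcases h with ⟨y, hy, d, hd, e⟩ | h
    · left
      rw [← dat.qv] at hy
      exact conj_case (y := (⟨y, QQ_le hy⟩ : ↥PP)) (g := ic g) z_mem (xs_ff dat).central (xt_cases hd) e
        (ker_mem.2 hy)
    · right
      rwa [card_fix dat g] at h
  have hs : IsSimpleGroup G3 := (S1054.result chevF4 (by simp)).1
  generalize model = M at STEP
  have : Fact (Nat.Prime 3) := ⟨Nat.prime_three⟩
  obtain ⟨x, hxU, hxV⟩ := H934.FF.exists_conj_notMem_C3 (r := 3) hs hg1 hg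
  refine CJ g (x * g * x⁻¹) (isConj_iff.2 ⟨x, rfl⟩) ?_
  have hg' : (x * g * x⁻¹) ^ 3 ^ k = 1 := by rw [conj_pow, hg, mul_one, mul_inv_cancel]
  generalize x * g * x⁻¹ = g1 at *
  clear hg hg1
  let u : ↥CZ := ⟨g1, U_le hxU⟩
  have hu : u ^ 3 ^ k = 1 := Subtype.ext hg'
  have hl1 : M.f u ≠ 1 := fun h => hxV ((M.ker u).1 h)
  have hlo : Odd (orderOf (M.f u)) := odd_of_pow (k := k) (by rw [← map_pow, hu, map_one])
  have hln := ne_ng hl1 hlo
  obtain ⟨X, hX⟩ := M.rel (M.f u)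
  rcases (H750.F43.fix_le M.rel hl1 hlo hX).2 with h8 | ⟨h, c, hc, hconj⟩
  · refine STEP u hl1 (Or.inr ((M.fix u X hX).trans ?_))
    calc 3 * 3 ^ finrank F3 (LinearMap.ker (X - 1)) ≤ 3 * 3 ^ 8 :=
          Nat.mul_le_mul_left _ (Nat.pow_le_pow_right (by norm_num) h8)
      _ = 3 ^ 9 := by norm_num
  · obtain ⟨y, rfl⟩ := M.surj h
    obtain ⟨v, c', m, hv, hc', hm, hfm⟩ := M.tv
    obtain ⟨B, hB⟩ := sp_transitive hv (w := eb (Sum.inl 0)) (by decide)
    obtain ⟨b, rfl⟩ := M.surj B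
    -- an element of the root group with the same image
    obtain ⟨a, ha, m', hm', hfm'⟩ : ∃ a : F3, a ≠ 0 ∧ ∃ m' : ↥CZ, (m' : G3) = xa a ∧ M.f m' = transv v c := by
      rcases three_cases hc hc' with rfl | rfl
      · exact ⟨1, one_ne_zero, m, hm, hfm⟩
      · have h1 : ((m⁻¹ : ↥CZ) : G3) ∈ XX chevF4 4 F3 (vec chevF4 4 25) := by
          rw [Subgroup.coe_inv, hm]
          exact inv_mem ((H25.F43.mem_XX isType_F4 (by decide +kernel)).2 ⟨1, rfl⟩)
        obtain ⟨a, ha⟩ := (H25.F43.mem_XX isType_F4 (by decide +kernel)).1 h1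
        have h2 : M.f m⁻¹ = transv v (-c') := by
          rw [map_inv, hfm, inv_eq_iff_mul_eq_one, transv_add, add_neg_cancel, transv_zero]
        refine ⟨a, ?_, m⁻¹, ha, h2⟩
        rintro rfl
        have h3 : (m : G3) = 1 := by
          have h4 : ((m⁻¹ : ↥CZ) : G3) = 1 := ha.trans (H162.GaussExc.xc_zero isType_F4 (by decide +kernel))
          rw [Subgroup.coe_inv] at h4
          exact inv_eq_one.1 h4
        rw [show m = 1 from Subtype.ext h3, map_one] at hfm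
        exact transv_ne_one hv hc' hfm.symm
    have hbv : M.f b * M.f m' * (M.f b)⁻¹ = transv (eb (Sum.inl 0)) c := by
      rw [hfm', conj_transv, hB]
    let w : ↥CZ := b⁻¹ * (y * u * y⁻¹) * b
    have hw : M.f w = M.f m' := by
      refine (mapc M.f b _).trans ?_
      rw [mapd M.f y u, hconj, ← hbv]
      group
    have hker : M.f (m'⁻¹ * w) = 1 := by rw [map_mul, map_inv, hw, inv_mul_cancel]
    have hv' := (M.ker _).1 hker
    have hwe : (w : G3) = xa a * ((m'⁻¹ * w : ↥CZ) : G3) := by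
      rw [← hm', ← Subgroup.coe_mul, mul_inv_cancel_left]
    have hfin : P (w : G3) → P g1 := by
      intro h1
      refine CJ g1 (w : G3) (isConj_iff.2 ⟨((b⁻¹ * y : ↥CZ) : G3), ?_⟩) h1
      change ((b : G3)⁻¹ * (y : G3)) * g1 * ((b : G3)⁻¹ * (y : G3))⁻¹ = ((b : G3)⁻¹ * ((y : G3) * g1 * (y : G3)⁻¹) * (b : G3))
      group
    have hwf : M.f w = ((M.f b)⁻¹ * M.f y) * M.f u * ((M.f b)⁻¹ * M.f y)⁻¹ := by
      refine (mapc M.f b _).trans ?_
      rw [mapd M.f y u]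
      group
    have hw1 : M.f w ≠ 1 := by
      rw [hwf]
      intro h1
      exact hl1 (conj_eq_one_iff.1 h1)
    rcases H934.FF.uThree (K := F3) (by decide) hv' ha with ⟨y', hy', d, hd, he⟩ | ⟨h', d, he⟩
    · refine hfin (STEP w hw1 (Or.inl ⟨y', hy', d, hd, ?_⟩))
      rw [hwe]
      exact he
    · refine hfin ?_
      rw [hwe]
      refine CJ _ (xa a * xt d) (isConj_iff.2 ⟨h', he⟩) ?_
      exact U4 a d ha

/-- **mixed elements** -/
theorem mixed {P : G3 → Prop} (CJ : ∀ a b : G3, IsConj a b → P b → P a)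
    (SMALL : ∀ g : G3, 3 ∣ orderOf g → Nat.card (centralizer ({g} : Set G3)) ≤ 4976985092 → P g)
    (RATIO : ∀ g : ↥PP, 3 ∣ orderOf (g : G3) → ff g ≠ 1 →
      ((∃ y ∈ ff.ker, y * g * y⁻¹ = g * zP) ∨ Nat.card (FixX ff.ker zP g) ≤ 3 ^ 9) → P (g : G3))
    {g : G3} (hg : g ∈ CZ) {a b : ℕ} (ha : 1 ≤ a) (hb : 1 ≤ b) (ho : orderOf g = 2 ^ a * 3 ^ b) : P g := by
  obtain ⟨g1, hg1⟩ : ∃ g1 : ↥PP, (g1 : Gm) = g := ⟨⟨g, cz.le hg⟩, rfl⟩
  have ho1 : orderOf g1 = 2 ^ a * 3 ^ b := by rw [← ho, ← hg1, Subgroup.orderOf_coe]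
  obtain ⟨s, u, hs, hu, hc, hsu, hs1, hu1⟩ := exists_parts ho1
  obtain ⟨n, n1, n2⟩ := H150.F43.Swap.exists_swap_eq (K := F3)
  have h3 : 3 ∣ orderOf g := by
    rw [ho]
    exact dvd_mul_of_dvd_right (dvd_pow_self 3 (by omega)) _
  have h4 : 3 ∣ orderOf ((s : Gm) * (u : Gm)) := by
    rw [← Subgroup.coe_mul, hsu, hg1]
    exact h3
  have h1 : P ((s : Gm) * (u : Gm)) :=
    abs_gen3 (G := Gm) (P := P) (cj_of CJ)
      (H := PP) (z := zP) (fun g => H701.F43.CzP.mem_PP_iff) ff ff_surj (xs_ff dat) (card_ker dat)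
      kap_PP SMALL (fun g h3 hf h => RATIO g h3 hf (by
        rcases h with h | h
        · exact Or.inl (conv (xs_ff dat).central zP_pow h)
        · exact Or.inr h))
      (t := tP) kp_tP (xb := xP) (c := 1) one_ne_zero ff_xP KK_PP (n := n) (n1 1) (n2 1) hs hu hc
      (hs1 ha) (hu1 hb) h4
  rw [← hg1, ← hsu]
  exact h1

/-- **The reduction.** -/
theorem reduce {P : G3 → Prop} (CJ : ∀ a b : G3, IsConj a b → P b → P a)
    (SMALL : ∀ g : G3, 3 ∣ orderOf g → Nat.card (centralizer ({g} : Set G3)) ≤ 4976985092 → P g)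
    (RATIO : ∀ g : ↥PP, 3 ∣ orderOf (g : G3) → ff g ≠ 1 →
      ((∃ y ∈ ff.ker, y * g * y⁻¹ = g * zP) ∨ Nat.card (FixX ff.ker zP g) ≤ 3 ^ 9) → P (g : G3))
    (U4 : ∀ a d : F3, a ≠ 0 → P (xa a * xt d))
    (g : G3) (h3 : 3 ∣ orderOf g) : P g := by
  have hK : Nat.card F3 = 3 := by simp
  by_cases h5 : ∃ p : ℕ, p.Prime ∧ 5 ≤ p ∧ p ∣ orderOf g
  · obtain ⟨p, hp, hp5, hpd⟩ := h5
    exact SMALL g h3 (H938.F43.fc_le hK h3 hp hp5 hpd)
  · push Not at h5
    have hn : orderOf g ≠ 0 := (orderOf_pos g).ne'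
    obtain ⟨a, b, hab⟩ : ∃ a b, orderOf g = 2 ^ a * 3 ^ b := by
      obtain ⟨a, m, h1, h2⟩ := Nat.exists_eq_pow_mul_and_not_dvd hn 2 (by norm_num)
      have hm : m ≠ 0 := fun h0 => hn (by rw [h2, h0, mul_zero])
      obtain ⟨b, m', h3, h4⟩ := Nat.exists_eq_pow_mul_and_not_dvd hm 3 (by norm_num)
      refine ⟨a, b, ?_⟩
      have h6 : m' = 1 := by
        by_contra hne
        have hp := Nat.minFac_prime hne
        have hd := Nat.minFac_dvd m'
        refine h5 m'.minFac hp ?_ (by rw [h2, h4]; exact dvd_mul_of_dvd_right (dvd_mul_of_dvd_right hd _) _)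
        have hge := hp.two_le
        by_contra hlt
        have h7 : m'.minFac = 2 ∨ m'.minFac = 3 ∨ m'.minFac = 4 := by omega
        rcases h7 with h7 | h7 | h7
        · rw [h7] at hd
          exact h1 (by rw [h4]; exact dvd_mul_of_dvd_right hd _)
        · rw [h7] at hd
          exact h3 hd
        · rw [h7] at hp
          exact absurd hp (by norm_num)
      rw [h2, h4, h6, mul_one]
    have hb : 1 ≤ b := by
      by_contra hb
      have hb0 : b = 0 := by omega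
      rw [hab, hb0, pow_zero, mul_one] at h3
      have := Nat.prime_three.dvd_of_dvd_pow h3
      omega
    by_cases ha : a = 0
    · have hg1 : g ≠ 1 := by
        rintro rfl
        rw [orderOf_one] at h3
        omega
      refine three_elt (P := fun g => 3 ∣ orderOf g → P g)
        (fun a b hab h h3 => CJ a b hab (h (by rw [← orderOf_of_isConj hab]; exact h3)))
        (fun g hf h h3 => RATIO g h3 hf h) (fun a d ha _ => U4 a d ha) hg1 (k := b) ?_ h3
      rw [ha, pow_zero, one_mul] at hab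
      rw [← hab, pow_orderOf_eq_one]
    · rcases H885.Pw.DichF.dich hK (by omega : 1 ≤ a) hab with ⟨x, hx⟩ | hc
      · have h1 : x⁻¹ * g * x ∈ CZ := by
          rw [Subgroup.mem_centralizer_singleton_iff]
          have h2 : g * (x * zz * x⁻¹) = (x * zz * x⁻¹) * g := hx.eq
          calc x⁻¹ * g * x * zz = x⁻¹ * (g * (x * zz * x⁻¹)) * x := by group
            _ = x⁻¹ * ((x * zz * x⁻¹) * g) * x := by rw [h2]
            _ = zz * (x⁻¹ * g * x) := by group
        refine CJ g (x⁻¹ * g * x) (isConj_iff.2 ⟨x⁻¹, by rw [inv_inv]⟩) ?_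
        refine mixed CJ SMALL RATIO h1 (a := a) (b := b) (by omega) hb ?_
        have h6 := orderOf_conj x⁻¹ g
        rw [inv_inv] at h6
        rw [h6]
        exact hab
      · exact SMALL g h3 hc

end Cfsg.Agent.H290.Six.F43
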